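import Mathlib

/-!
Arithmetic of the two degrees (S3403, case A).
-/

set_option autoImplicit false

namespace H45.Eleven

/-- A prime of `11 u` outside the two-point stabiliser gives a full part to one degree. -/
theorem side {n N g d e p : ℕ} (hp : p.Prime) (hn : n = N + 1) (hN : 0 < N) (hm : 0 < g)
    (hpN : p ∣ N) (hpg : ¬ p ∣ g) (hsum : d + e = n) (hprod : N ∣ d * e) :
    p ^ (n * N * g).factorization p ∣ d ∨ p ^ (n * N * g).factorization p ∣ e := by
  have hpn : ¬ p ∣ n := fun h => hp.one_lt.not_ge (Nat.le_of_dvd one_pos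
    ((Nat.dvd_add_right hpN).1 (hn ▸ h)))
  have hf : (n * N * g).factorization p = N.factorization p := by
    rw [Nat.factorization_mul (Nat.mul_ne_zero (by omega) hN.ne') hm.ne',
      Nat.factorization_mul (by omega) hN.ne', Finsupp.add_apply, Finsupp.add_apply,
      Nat.factorization_eq_zero_of_not_dvd hpn, Nat.factorization_eq_zero_of_not_dvd hpg]
    omega
  rw [hf]
  have hde : p ^ N.factorization p ∣ d * e := (Nat.ordProj_dvd N p).trans hprod
  by_cases hpd : p ∣ d
  · left
    have hpe : ¬ p ∣ e := fun h => hpn (hsum ▸ Nat.dvd_add hpd h)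
    exact ((hp.coprime_iff_not_dvd.2 hpe).pow_left _).dvd_of_dvd_mul_right hde
  · right
    exact ((hp.coprime_iff_not_dvd.2 hpd).pow_left _).dvd_of_dvd_mul_left hde

theorem prime_u {u v g p : ℕ} (hu : Odd u) (h5u : u % 5 = 1) (hu1 : 1 < u) (hv : 5 * v ∣ u - 1)
    (hg : g ∣ 10 * v) (hp : p.Prime) (hpu : p ∣ u) : ¬ p ∣ g := by
  intro hpg
  rcases (Nat.Prime.dvd_mul hp).1 (hpg.trans hg) with h | h
  · rcases (Nat.Prime.dvd_mul hp).1 (show p ∣ 2 * 5 by simpa using h) with h | h
    · obtain rfl := (Nat.prime_dvd_prime_iff_eq hp Nat.prime_two).1 h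
      exact (Nat.not_even_iff_odd.2 hu) (even_iff_two_dvd.2 hpu)
    · obtain rfl := (Nat.prime_dvd_prime_iff_eq hp Nat.prime_five).1 h
      omega
  · exact hp.one_lt.not_ge (Nat.le_of_dvd one_pos
      ((Nat.dvd_add_right ((h.trans (dvd_mul_left v 5)).trans hv)).1
        (by rw [show u - 1 + 1 = u by omega]; exact hpu)))

/-- If every full part lies in the first degree, the second is linear. -/
theorem degree_one {u v g n d e s : ℕ} (hu : Odd u) (h5u : u % 5 = 1) (hu1 : 1 < u)
    (hv : 5 * v ∣ u - 1) (hg : g ∣ 10 * v) (hn : n = 11 * u + 1) (hd : 0 < d) (he : 0 < e)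
    (hsum : d + e = n) (hprod : d * e = 11 * u * s) (hdvd : e ∣ n * (11 * u) * g)
    (hside : ∀ p : ℕ, p.Prime → p ∣ 11 * u → ¬ p ∣ g → p ^ (n * (11 * u) * g).factorization p ∣ d) :
    e = 1 := by
  have hg0 : 0 < g := Nat.pos_of_ne_zero fun h0 => by
    subst h0
    rw [zero_dvd_iff] at hg
    have : v = 0 := by omega
    subst this
    simp at hv
    omega
  have hN : 0 < 11 * u := by omega
  have hpart : ∀ p k : ℕ, p.Prime → p ^ k ∣ 11 * u → ¬ p ∣ g → p ^ k ∣ d := by
    intro p k hp hpk hpg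
    rcases Nat.eq_zero_or_pos k with rfl | hk
    · simp
    refine (pow_dvd_pow p ?_).trans (hside p hp ((dvd_pow_self p hk.ne').trans hpk) hpg)
    refine ((hp.pow_dvd_iff_le_factorization hN.ne').1 hpk).trans ?_
    exact (Nat.factorization_le_iff_dvd hN.ne' (Nat.mul_ne_zero (Nat.mul_ne_zero (by omega) hN.ne')
      hg0.ne')).2 ((dvd_mul_left _ n).trans (dvd_mul_right _ g)) p
  have hud : u ∣ d := (Nat.dvd_iff_prime_pow_dvd_dvd d u).2 fun p k hp hpk => by
    rcases Nat.eq_zero_or_pos k with rfl | hk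
    · simp
    exact hpart p k hp (hpk.trans (dvd_mul_left u 11))
      (prime_u hu h5u hu1 hv hg hp ((dvd_pow_self p hk.ne').trans hpk))
  by_cases h11 : 11 ∣ g
  · have hv11 : 11 ∣ v := (Nat.Coprime.dvd_mul_left (by norm_num)).1 (h11.trans hg)
    have hu11 : 11 ∣ u - 1 := (hv11.trans (dvd_mul_left v 5)).trans hv
    obtain ⟨k, rfl⟩ := hud
    have hk0 : 0 < k := Nat.pos_of_ne_zero fun h0 => by simp [h0] at hd
    have hk11 : k ≤ 11 := by
      by_contra hc
      have : u * 12 ≤ u * k := Nat.mul_le_mul_left u (by omega)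
      omega
    by_cases hk : k = 11
    · subst hk; omega
    exfalso
    have h1 : k * e = 11 * s := Nat.eq_of_mul_eq_mul_left (show 0 < u by omega) (by
      rw [← mul_assoc, hprod]; ring)
    have he11 : 11 ∣ e :=
      (Nat.Coprime.dvd_mul_left ((Nat.Prime.coprime_iff_not_dvd (by norm_num)).2 fun h => by
        have := Nat.le_of_dvd hk0 h; omega)).1 ⟨s, h1⟩
    have hk1 : k = 1 := by
      obtain ⟨t, ht⟩ := hu11
      obtain ⟨r, hr⟩ := he11
      have : u * k = 11 * (t * k) + k := by
        rw [show u = 11 * t + 1 by omega]; ring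
      omega
    subst hk1
    have he' : e = 10 * u + 1 := by omega
    have hcu : Nat.Coprime e u := by
      rw [he', Nat.coprime_comm, Nat.coprime_mul_right_add_right]; exact Nat.coprime_one_right u
    have hcn : Nat.Coprime e n := by
      have : n = e + u := by omega
      rw [this]
      exact Nat.coprime_self_add_right.2 hcu
    have hd1 : e ∣ 11 * g := by
      rw [show n * (11 * u) * g = n * (u * (11 * g)) by ring] at hdvd
      exact hcu.dvd_of_dvd_mul_left (hcn.dvd_of_dvd_mul_left hdvd)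
    have hd2 : e ∣ 220 * (u - 1) := by
      obtain ⟨t, ht⟩ := hv
      refine hd1.trans ((Nat.mul_dvd_mul_left 11 hg).trans ⟨10 * t, ?_⟩)
      rw [ht]; ring
    have hd3 : e ∣ 242 := (Nat.dvd_add_right hd2).1 ⟨22, by omega⟩
    have := Nat.le_of_dvd (by norm_num) hd3
    obtain ⟨t, ht⟩ := hu11
    omega
  · have : 11 * u ∣ d := (Nat.dvd_iff_prime_pow_dvd_dvd d (11 * u)).2 fun p k hp hpk => by
      rcases Nat.eq_zero_or_pos k with rfl | hk
      · simp
      refine hpart p k hp hpk fun hpg => ?_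
      rcases (Nat.Prime.dvd_mul hp).1 ((dvd_pow_self p hk.ne').trans hpk) with h | h
      · exact h11 ((Nat.prime_dvd_prime_iff_eq hp (by norm_num)).1 h ▸ hpg)
      · exact prime_u hu h5u hu1 hv hg hp h hpg
    have h1 := Nat.le_of_dvd hd this
    omega

end H45.Eleven
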