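import Cfsg.Agent.H12.Induction
import Cfsg.Agent.H61.GI.Values
import Cfsg.Agent.H24.CharBasic

/-!
A linear character of a point stabiliser in a two-transitive group which agrees with its transport
by a swapping element: the induced character (S3403, case A).
-/

set_option autoImplicit false
set_option linter.unusedSectionVars false

open Cfsg
open scoped ComplexConjugate

namespace H45.Eleven

universe u v

variable {G : Type u} {Ω : Type v} [Group G] [Fintype G] [MulAction G Ω] [Fintype Ω]
  [DecidableEq Ω]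

/-- A linear character of the stabiliser of `a`, extended by zero. -/
noncomputable def ext {a : Ω} (θ : MulAction.stabilizer G a →* ℂˣ) : G → ℂ :=
  extendByZero (MulAction.stabilizer G a) (fun h => (θ h : ℂ))

/-- The induced character. -/
noncomputable def ind {a : Ω} (θ : MulAction.stabilizer G a →* ℂˣ) : G → ℂ :=
  indFun (MulAction.stabilizer G a) (fun h => (θ h : ℂ))

variable {a : Ω} (θ : MulAction.stabilizer G a →* ℂˣ)

theorem ext_mk {z : G} (hz : z • a = a) : ext θ z = (θ ⟨z, hz⟩ : ℂ) :=
  H12.extendByZero_mk (MulAction.stabilizer G a) _ hz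

theorem ext_zero {z : G} (hz : z • a ≠ a) : ext θ z = 0 :=
  H12.extendByZero_of_notMem (MulAction.stabilizer G a) _ hz

theorem ext_conj {h : G} (hh : h • a = a) (z : G) : ext θ (h⁻¹ * z * h) = ext θ z := by
  by_cases hz : z • a = a
  · have hz' : (h⁻¹ * z * h) • a = a := by rw [mul_smul, mul_smul, hh, hz, inv_smul_eq_iff, hh]
    rw [ext_mk θ hz, ext_mk θ hz']
    have : (⟨h⁻¹ * z * h, hz'⟩ : MulAction.stabilizer G a) = ⟨h, hh⟩⁻¹ * ⟨z, hz⟩ * ⟨h, hh⟩ :=
      Subtype.ext rfl
    rw [this, map_mul, map_mul, map_inv, mul_comm (θ ⟨h, hh⟩)⁻¹, mul_assoc, inv_mul_cancel, mul_one]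
  · rw [ext_zero θ hz, ext_zero θ fun h' => hz ?_]
    rw [mul_smul, mul_smul, hh, inv_smul_eq_iff, hh] at h'
    exact h'

/-- Conjugating by any two elements with the same effect on `a` gives the same value. -/
theorem ext_transport {r r' : G} (h : r • a = r' • a) (z : G) :
    ext θ (r⁻¹ * z * r) = ext θ (r'⁻¹ * z * r') := by
  have hk : (r'⁻¹ * r) • a = a := by rw [mul_smul, h, inv_smul_smul]
  rw [← ext_conj θ hk (r'⁻¹ * z * r')]
  congr 1
  group

theorem mul_conj_self {H : Type*} [Group H] [Finite H] (f : H →* ℂˣ) (h : H) :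
    (f h : ℂ) * conj (f h : ℂ) = 1 := by
  have h1 : ((f h : ℂ)) ^ orderOf h = 1 := by
    rw [← Units.val_pow_eq_pow_val, ← map_pow, pow_orderOf_eq_one, map_one, Units.val_one]
  rw [Complex.mul_conj, Complex.normSq_eq_norm_sq,
    Complex.norm_eq_one_of_pow_eq_one h1 (orderOf_pos h).ne']
  norm_num

open scoped Classical in
/-- The fibres of an orbit map all have the size of the stabiliser. -/
theorem card_fiber (K : Subgroup G) {x c : Ω} {k : G} (hk : k ∈ K) (hkc : k • x = c) :
    (Finset.univ.filter fun g : G => g ∈ K ∧ g • x = c).card =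
      Nat.card ↥(K ⊓ MulAction.stabilizer G x) := by
  rw [← Nat.card_eq_finsetCard]
  refine Nat.card_congr
    { toFun := fun g => ⟨k⁻¹ * g.1, ?_⟩
      invFun := fun h => ⟨k * h.1, ?_⟩
      left_inv := fun g => Subtype.ext (mul_inv_cancel_left _ _)
      right_inv := fun h => Subtype.ext (inv_mul_cancel_left _ _) }
  · have hg := (Finset.mem_filter.1 g.2).2
    refine ⟨K.mul_mem (K.inv_mem hk) hg.1, ?_⟩
    show (k⁻¹ * g.1) • x = x
    rw [mul_smul, hg.2, inv_smul_eq_iff, hkc]
  · refine Finset.mem_filter.2 ⟨Finset.mem_univ _, K.mul_mem hk h.2.1, ?_⟩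
    rw [mul_smul, show h.1 • x = x from h.2.2, hkc]

open scoped Classical in
/-- The value of the induced character is a sum over fixed points. -/
theorem ind_apply {r : Ω → G} (hr : ∀ c, r c • a = c) (g : G) :
    ind θ g = ∑ c ∈ Finset.univ.filter (fun c : Ω => g • c = c),
      ext θ ((r c)⁻¹ * g * r c) := by
  rw [ind, H12.indFun_apply]
  change (Nat.card ↥(MulAction.stabilizer G a) : ℂ)⁻¹ * ∑ x : G, ext θ (x⁻¹ * g * x) = _
  have hne : (Nat.card ↥(MulAction.stabilizer G a) : ℂ) ≠ 0 := Nat.cast_ne_zero.2 Nat.card_pos.ne'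
  rw [inv_mul_eq_iff_eq_mul₀ hne, Finset.mul_sum, Finset.sum_filter,
    ← Finset.sum_fiberwise (s := (Finset.univ : Finset G)) (g := fun x => x • a)]
  refine Finset.sum_congr rfl fun c _ => ?_
  by_cases hc : g • c = c
  · rw [if_pos hc, Finset.sum_congr rfl fun x hx =>
      ext_transport θ (show x • a = r c • a by rw [hr, (Finset.mem_filter.1 hx).2]) g,
      Finset.sum_const, nsmul_eq_mul]
    congr 2
    have h1 := card_fiber (⊤ : Subgroup G) (Subgroup.mem_top (r c)) (hr c)
    rw [top_inf_eq] at h1
    rw [← h1]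
    exact congrArg Finset.card (Finset.filter_congr fun x _ => by simp)
  · rw [if_neg hc]
    refine Finset.sum_eq_zero fun x hx => ext_zero θ fun h' => hc ?_
    rw [mul_smul, mul_smul, (Finset.mem_filter.1 hx).2, inv_smul_eq_iff, (Finset.mem_filter.1 hx).2] at h'
    exact h'

section swap

variable (htwo : ∀ p q c d : Ω, p ≠ q → c ≠ d → ∃ g : G, g • p = c ∧ g • q = d)
  {b : Ω} (hab : a ≠ b) {w : G} (wa : w • a = b)
  (hinv : ∀ m : G, m • a = a → m • b = b → ext θ (w⁻¹ * m * w) = ext θ m)

include htwo hab in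
theorem exists_move (c : Ω) (hc : c ≠ a) :
    ∃ e : G, e • a = a ∧ e • b = c := htwo a b a c hab (Ne.symm hc)

include htwo hab wa hinv in
/-- All summands agree on the stabiliser. -/
theorem ext_fix {r g : G} {c : Ω} (hr : r • a = c) (hg : g • a = a) (hgc : g • c = c) :
    ext θ (r⁻¹ * g * r) = ext θ g := by
  by_cases hc : c = a
  · exact ext_conj θ (hr.trans hc) g
  obtain ⟨e, hea, heb⟩ := htwo a b a c hab (Ne.symm hc)
  rw [ext_transport θ (show r • a = (e * w) • a by rw [hr, mul_smul, wa, heb]) g,
    show (e * w)⁻¹ * g * (e * w) = w⁻¹ * (e⁻¹ * g * e) * w by group, hinv, ext_conj θ hea]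
  · rw [mul_smul, mul_smul, hea, hg, inv_smul_eq_iff, hea]
  · rw [mul_smul, mul_smul, heb, hgc, inv_smul_eq_iff, heb]

open scoped Classical in
include htwo hab wa hinv in
/-- On the stabiliser the induced character is the fixed point count times the linear one. -/
theorem ind_stab {g : G} (hg : g • a = a) :
    ind θ g = ((Finset.univ.filter fun c : Ω => g • c = c).card : ℂ) * ext θ g := by
  have hr : ∀ c : Ω, ∃ r : G, r • a = c := fun c => by
    by_cases hc : c = a
    · exact ⟨1, by rw [one_smul, hc]⟩
    · obtain ⟨e, -, heb⟩ := exists_move htwo hab c hc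
      exact ⟨e * w, by rw [mul_smul, wa, heb]⟩
  choose r hr using hr
  rw [ind_apply θ hr, Finset.sum_congr rfl fun c hc => ext_fix θ htwo hab wa hinv (hr c) hg
    (Finset.mem_filter.1 hc).2, Finset.sum_const, nsmul_eq_mul]

include htwo hab in
open scoped Classical in
/-- Orbit-stabiliser for the stabiliser on the other points. -/
theorem card_stab :
    Nat.card ↥(MulAction.stabilizer G a) = (Fintype.card Ω - 1) *
      Nat.card ↥(MulAction.stabilizer G a ⊓ MulAction.stabilizer G b) := by
  set H := MulAction.stabilizer G a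
  have h1 : Nat.card ↥H = (Finset.univ.filter fun g : G => g ∈ H).card := by
    rw [Nat.card_eq_fintype_card, Fintype.card_subtype]
  rw [h1, Finset.card_eq_sum_card_fiberwise (f := fun g => g • b)
    (t := (Finset.univ : Finset Ω).erase a) fun g hg => by
      refine Finset.mem_erase.2 ⟨fun h' => hab.symm (smul_left_cancel g (?_ : g • b = g • a)),
        Finset.mem_univ _⟩
      exact (show g • b = a from h').trans (Finset.mem_filter.1 hg).2.symm]
  rw [Finset.sum_congr rfl fun c hc => ?_, Finset.sum_const, smul_eq_mul,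
    Finset.card_erase_of_mem (Finset.mem_univ _), Finset.card_univ]
  obtain ⟨e, hea, heb⟩ := exists_move htwo hab c (Finset.mem_erase.1 hc).1
  rw [Finset.filter_filter]
  convert card_fiber H (hea : e ∈ H) heb

include htwo hab in
open scoped Classical in
/-- The stabiliser has two orbits. -/
theorem sum_fix :
    ∑ h : MulAction.stabilizer G a,
      (Finset.univ.filter fun c : Ω => (h : G) • c = c).card =
      2 * Nat.card ↥(MulAction.stabilizer G a) := by
  set H := MulAction.stabilizer G a with hH
  simp only [Finset.card_filter]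
  rw [Finset.sum_comm, ← Finset.add_sum_erase _ _ (Finset.mem_univ a), two_mul]
  refine congrArg₂ (· + ·) ?_ ?_
  · rw [Finset.sum_congr rfl fun (h : H) _ => if_pos (show (h : G) • a = a from h.2)]
    rw [Finset.sum_const, smul_eq_mul, mul_one, Finset.card_univ, Nat.card_eq_fintype_card]
  · rw [Finset.sum_congr rfl (g := fun _ => Nat.card ↥(H ⊓ MulAction.stabilizer G b)) fun c hc => ?_,
      Finset.sum_const, smul_eq_mul, Finset.card_erase_of_mem (Finset.mem_univ _), Finset.card_univ,
      card_stab htwo hab]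
    obtain ⟨e, hea, heb⟩ := exists_move htwo hab c (Finset.mem_erase.1 hc).1
    rw [← Finset.card_filter, ← Nat.card_eq_finsetCard]
    refine Nat.card_congr
      { toFun := fun h => ⟨e⁻¹ * (h.1 : G) * e, ?_, ?_⟩
        invFun := fun h => ⟨⟨e * h.1 * e⁻¹, ?_⟩, ?_⟩
        left_inv := fun h => by
          apply Subtype.ext; apply Subtype.ext
          show e * (e⁻¹ * (h.1 : G) * e) * e⁻¹ = h.1
          group
        right_inv := fun h => Subtype.ext (by
          show e⁻¹ * (e * h.1 * e⁻¹) * e = h.1
          group) }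
    · show (e⁻¹ * (h.1 : G) * e) • a = a
      rw [mul_smul, mul_smul, hea, show (h.1 : G) • a = a from h.1.2, inv_smul_eq_iff, hea]
    · show (e⁻¹ * (h.1 : G) * e) • b = b
      rw [mul_smul, mul_smul, heb, (Finset.mem_filter.1 h.2).2, inv_smul_eq_iff, heb]
    · show (e * h.1 * e⁻¹) • a = a
      rw [mul_smul, mul_smul, inv_smul_eq_iff.2 hea.symm, show h.1 • a = a from h.2.1, hea]
    · refine Finset.mem_filter.2 ⟨Finset.mem_univ _, ?_⟩
      show (e * h.1 * e⁻¹) • c = c
      rw [mul_smul, mul_smul, inv_smul_eq_iff.2 heb.symm, show h.1 • b = b from h.2.2, heb]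

include htwo hab wa hinv in
open scoped Classical in
/-- The induced character has two constituents. -/
theorem exists_split :
    ∃ A B : IrrCharacter G, A ≠ B ∧ ind θ = (A : G → ℂ) + (B : G → ℂ) ∧
      classInner (ind θ) (A : G → ℂ) = 1 ∧ classInner (ind θ) (B : G → ℂ) = 1 := by
  refine H61.GI.exists_two_irr (H12.IsCharacter.indFun (H12.isCharacter_monoidHom θ)) ?_
  have hcl : IsClassFunction G (ind θ) := H12.indFun_isClassFunction _ _
  rw [show classInner (ind θ) (ind θ) = classInner (indFun (MulAction.stabilizer G a)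
      (fun h => (θ h : ℂ))) (ind θ) from rfl, H12.classInner_indFun _ _ hcl, H12.classInner_def,
    Finset.sum_congr rfl (g := fun h : MulAction.stabilizer G a =>
      (((Finset.univ.filter fun c : Ω => (h : G) • c = c).card : ℕ) : ℂ)) fun h _ => ?_,
    ← Nat.cast_sum, sum_fix htwo hab]
  · push_cast
    rw [← mul_assoc, mul_comm _ (2 : ℂ), mul_assoc,
      inv_mul_cancel₀ (Nat.cast_ne_zero.2 Nat.card_pos.ne'), mul_one]
  · change (θ h : ℂ) * conj (ind θ h) = _
    rw [ind_stab θ htwo hab wa hinv h.2, ext_mk θ h.2, map_mul, Complex.conj_natCast,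
      mul_left_comm, mul_conj_self, mul_one]

end swap

end H45.Eleven
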