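import Cfsg.Agent.H63.Eleven.Kernel

/-!
The linear character of a point stabiliser used for a good class of involutions (S3403, case A).
-/

set_option autoImplicit false
set_option linter.unusedSectionVars false

namespace H45.Eleven

open H63.Eleven

universe u v

variable {G : Type u} {Ω : Type v} [Group G] [Finite G] [MulAction G Ω] (A : ACore G Ω)

/-- In a finite commutative group of exponent dividing ten whose order divides ten, the non-trivial
fifth powers agree. -/
theorem fifth_mul {Q : Type*} [CommGroup Q] [Finite Q] (hexp : ∀ q : Q, q ^ 10 = 1)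
    (hcard : Nat.card Q ∣ 10) {p q : Q} (hp : p ^ 5 ≠ 1) (hq : q ^ 5 ≠ 1) : p ^ 5 * q ^ 5 = 1 := by
  classical
  have hsq : ∀ r : Q, r ^ 5 * r ^ 5 = 1 := fun r => by rw [← pow_add]; exact hexp r
  by_contra hne
  have hpq : p ^ 5 ≠ q ^ 5 := fun h => hne (by rw [← h]; exact hsq p)
  let K : Subgroup Q :=
    { carrier := {r | r * r = 1}
      one_mem' := mul_one 1
      mul_mem' := fun {x y} hx hy => by
        show x * y * (x * y) = 1
        rw [mul_mul_mul_comm, hx, hy, mul_one]
      inv_mem' := fun {x} hx => by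
        show x⁻¹ * x⁻¹ = 1
        rw [← mul_inv_rev, show x * x = 1 from hx, inv_one] }
  have hK4 : 4 ∣ Nat.card K := by
    have hp2 : IsPGroup 2 K := fun g => ⟨1, Subtype.ext (by
      show (g : Q) ^ 2 ^ 1 = 1
      rw [pow_one, pow_two]
      exact g.2)⟩
    haveI : Fact (Nat.Prime 2) := ⟨Nat.prime_two⟩
    obtain ⟨n, hn⟩ := IsPGroup.iff_card.1 hp2
    have h3 : 3 ≤ Nat.card K := by
      have hs : ({1, p ^ 5, q ^ 5} : Finset Q).card = 3 :=
        Finset.card_eq_three.2 ⟨1, _, _, hp.symm, hq.symm, hpq, rfl⟩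
      rw [← hs, ← Nat.card_eq_finsetCard]
      refine Nat.card_le_card_of_injective (fun r => (⟨r.1, ?_⟩ : K))
        (fun x y h => Subtype.ext (congrArg (fun z : K => (z : Q)) h))
      have hr := r.2
      simp only [Finset.mem_insert, Finset.mem_singleton] at hr
      rcases hr with h | h | h <;> rw [h]
      exacts [one_mem K, hsq p, hsq q]
    rw [hn] at h3 ⊢
    rcases n with _ | _ | n
    · norm_num at h3
    · norm_num at h3
    · exact ⟨2 ^ n, by ring⟩
  have := hK4.trans ((Subgroup.card_subgroup_dvd_card K).trans hcard)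
  norm_num at this

open scoped Classical in
/-- The sign character, when some element inverts the points. -/
theorem exists_sign (a : Ω) {x : G} (hx : x • a = a) (hx5 : x ^ 5 ∉ A.W a)
    (hcard : Nat.card ↥(MulAction.stabilizer G a) ∣ 10 * Nat.card (A.W a)) :
    ∃ θ : MulAction.stabilizer G a →* ℂˣ, (θ ⟨x, hx⟩ ≠ 1) ∧
      ∀ h : MulAction.stabilizer G a, θ h = if (h : G) ^ 5 ∈ A.W a then 1 else -1 := by
  classical
  set H := MulAction.stabilizer G a with hH
  set W := (A.W a).subgroupOf H with hW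
  haveI hn : W.Normal := ⟨fun n hn g => by
    rw [hW, Subgroup.mem_subgroupOf] at hn ⊢
    have := A.W_conj g n a hn
    rwa [show (g : G) • a = a from g.2] at this⟩
  have hmk : ∀ h : H, (QuotientGroup.mk h : H ⧸ W) = 1 ↔ (h : G) ∈ A.W a := fun h => by
    rw [QuotientGroup.eq_one_iff, hW, Subgroup.mem_subgroupOf]
  letI : CommGroup (H ⧸ W) :=
    { (inferInstance : Group (H ⧸ W)) with
      mul_comm := fun p q => by
        induction p using QuotientGroup.induction_on with
        | H p =>
        induction q using QuotientGroup.induction_on with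
        | H q =>
        rw [← commutatorElement_eq_one_iff_mul_comm, commutatorElement_def, ← QuotientGroup.mk_inv,
          ← QuotientGroup.mk_inv, ← QuotientGroup.mk_mul, ← QuotientGroup.mk_mul,
          ← QuotientGroup.mk_mul, hmk]
        exact A.comm_mem a p q p.2 q.2 }
  have hexp : ∀ q : H ⧸ W, q ^ 10 = 1 := fun q => by
    induction q using QuotientGroup.induction_on with
    | H q => rw [← QuotientGroup.mk_pow, hmk]; exact A.pow_ten a q q.2
  have hdvd : Nat.card (H ⧸ W) ∣ 10 := by
    have h1 := Subgroup.card_eq_card_quotient_mul_card_subgroup W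
    have h2 : Nat.card W = Nat.card (A.W a) :=
      Nat.card_congr (Subgroup.subgroupOfEquivOfLe (A.W_le a)).toEquiv
    rw [h1, h2, mul_comm 10, mul_comm (Nat.card (H ⧸ W))] at hcard
    exact Nat.dvd_of_mul_dvd_mul_left Nat.card_pos hcard
  have hiff : ∀ h : H, (h : G) ^ 5 ∈ A.W a ↔ (QuotientGroup.mk h : H ⧸ W) ^ 5 = 1 := fun h => by
    rw [← QuotientGroup.mk_pow, hmk, SubmonoidClass.coe_pow]
  let f : H → ℂˣ := fun h => if (h : G) ^ 5 ∈ A.W a then 1 else -1
  refine ⟨{ toFun := f, map_one' := ?_, map_mul' := ?_ }, ?_, fun h => rfl⟩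
  · show f 1 = 1
    simp [f]
  · intro p q
    show f (p * q) = f p * f q
    simp only [f, hiff]
    rw [QuotientGroup.mk_mul, mul_pow]
    by_cases hp : (QuotientGroup.mk p : H ⧸ W) ^ 5 = 1
    · simp [hp]
    · by_cases hq : (QuotientGroup.mk q : H ⧸ W) ^ 5 = 1
      · simp [hp, hq]
      · rw [if_pos (fifth_mul hexp hdvd hp hq), if_neg hp, if_neg hq]
        simp
  · show f ⟨x, hx⟩ ≠ 1
    simp only [f, if_neg hx5]
    intro h
    have := congrArg Units.val h
    norm_num at this

/-- A linear character of a point stabiliser, trivial on the kernel and invariant under the swap. -/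
theorem exists_theta (T : A.Good) (h120 : A.v ≠ 120) (h : A.HasSigma ∨ 1 < A.v) (K : Subgroup G)
    (hKW : K ≤ A.W T.a) (hKn : ∀ g k : G, g • T.a = T.a → k ∈ K → g * k * g⁻¹ ∈ K)
    (hKfix : ∀ k ∈ K, k ≠ 1 → ∀ c : Ω, k • c = c → c = T.a)
    (hKcard : Nat.card K + 1 = Nat.card Ω) :
    ∃ θ : MulAction.stabilizer G T.a →* ℂˣ, θ ≠ 1 ∧
      (∀ k : MulAction.stabilizer G T.a, (k : G) ∈ K → θ k = 1) ∧
      (∀ k : MulAction.stabilizer G T.a, (k : G) ∈ Subgroup.zpowers T.y → θ k = 1) ∧
      (∀ m m' : MulAction.stabilizer G T.a, (m : G) • T.b = T.b →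
        (m' : G) = T.w * m * T.w⁻¹ → θ m' = θ m) := by
  classical
  set a := T.a
  set b := T.b
  have hab : a ≠ b := T.hab
  haveI : Finite Ω := Nat.finite_of_card_ne_zero (by rw [A.card_points]; omega)
  letI := Fintype.ofFinite Ω
  -- the unique kernel element with the same effect on `b`
  have hreg : ∀ c, c ≠ a → ∃ k ∈ K, k • b = c := by
    let f : K → {c : Ω // c ≠ a} := fun k => ⟨(k : G) • b, fun h' => hab (smul_left_cancel (k : G)
      ((show (k : G) • a = a from A.W_le a (hKW k.2)).trans h'.symm))⟩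
    have hf : Function.Injective f := fun p q hpq => by
      have hpq' : (p : G) • b = (q : G) • b := congrArg Subtype.val hpq
      by_contra hne
      have h1 : ((q : G)⁻¹ * p) • b = b := by rw [mul_smul, hpq', inv_smul_smul]
      exact hab.symm (hKfix _ (K.mul_mem (K.inv_mem q.2) p.2)
        (fun e => hne (Subtype.ext (inv_mul_eq_one.1 e).symm)) b h1)
    have hbij : Function.Bijective f := by
      refine (Nat.bijective_iff_injective_and_card f).2 ⟨hf, ?_⟩
      rw [Nat.card_eq_fintype_card (α := {c : Ω // c ≠ a}), Fintype.card_subtype_compl,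
        Fintype.card_subtype_eq, ← Nat.card_eq_fintype_card (α := Ω)]
      omega
    intro c hc
    obtain ⟨k, hk⟩ := hbij.2 ⟨c, hc⟩
    exact ⟨k, k.2, congrArg Subtype.val hk⟩
  set H := MulAction.stabilizer G a with hHdef
  set M := H ⊓ MulAction.stabilizer G b with hMdef
  set V := A.W a ⊓ MulAction.stabilizer G b with hVdef
  have hcardH : Nat.card H = Nat.card K * Nat.card M := by
    rw [← Nat.card_prod]
    refine (Nat.card_congr (Equiv.ofBijective
      (fun p : K × M => (⟨(p.1 : G) * p.2, H.mul_mem (A.W_le a (hKW p.1.2)) p.2.2.1⟩ : H)) ⟨?_, ?_⟩)).symm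
    · rintro ⟨k, m⟩ ⟨k', m'⟩ hp
      have hp' : (k : G) * m = k' * m' := congrArg (fun z : H => (z : G)) hp
      have hkb : (k : G) • b = (k' : G) • b := by
        calc (k : G) • b = ((k : G) * m) • b := by rw [mul_smul, show (m : G) • b = b from m.2.2]
          _ = ((k' : G) * m') • b := by rw [hp']
          _ = (k' : G) • b := by rw [mul_smul, show (m' : G) • b = b from m'.2.2]
      have hkk : k = k' := by
        by_contra hne
        exact hab.symm (hKfix _ (K.mul_mem (K.inv_mem k'.2) k.2)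
          (fun e => hne (Subtype.ext (inv_mul_eq_one.1 e).symm)) b
          (by rw [mul_smul, hkb, inv_smul_smul]))
      subst hkk
      exact Prod.ext rfl (Subtype.ext (mul_left_cancel hp'))
    · rintro ⟨g, hg⟩
      obtain ⟨k, hk, hkb⟩ := hreg (g • b) fun h' =>
        hab (smul_left_cancel g ((show g • a = a from hg).trans h'.symm))
      exact ⟨(⟨k, hk⟩, ⟨k⁻¹ * g, H.mul_mem (H.inv_mem (A.W_le a (hKW hk))) hg,
        show (k⁻¹ * g) • b = b by rw [mul_smul, inv_smul_eq_iff, hkb]⟩),
        Subtype.ext (mul_inv_cancel_left k g)⟩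
  have hu : Nat.card K = 11 * A.u := by have := A.card_points; omega
  have hWab : ∀ x : G, x • a = a → x • b = b → (x ∈ A.W a ↔ T.w * x * T.w⁻¹ ∈ A.W a) := by
    intro x hxa hxb
    have hwi : T.w⁻¹ = T.w := inv_eq_of_mul_eq_one_right T.ww
    have hyb : (T.w * x * T.w⁻¹) • a = a := by rw [hwi, mul_smul, mul_smul, T.wa, hxb, T.wb]
    constructor
    · intro hx
      have := A.W_conj T.w x b (A.V_sym a b x hab hx hxb)
      rwa [T.wb] at this
    · intro hx
      have hfix : (T.w * x * T.w⁻¹) • b = b := by rw [hwi, mul_smul, mul_smul, T.wb, hxa, T.wa]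
      have h1 := A.W_conj T.w _ b (A.V_sym a b _ hab hx hfix)
      rw [T.wb, hwi] at h1
      rwa [show T.w * (T.w * x * T.w) * T.w = (T.w * T.w) * x * (T.w * T.w) by group, T.ww,
        one_mul, mul_one] at h1
  have hya : T.y • a = a := T.ya
  by_cases hsig : A.HasSigma
  · obtain ⟨a', b', x, hab', hxa', hxb', hx5⟩ := hsig
    obtain ⟨g, hga, hgb⟩ := A.twoTrans a' b' a b hab' hab
    have hxa : (g * x * g⁻¹) • a = a := by rw [← hga, mul_smul, mul_smul, inv_smul_smul, hxa']
    have hx5' : (g * x * g⁻¹) ^ 5 ∉ A.W a := by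
      rw [conj_pow]
      intro h'
      have h1 := A.W_conj g⁻¹ _ a h'
      rw [inv_smul_eq_iff.2 hga.symm,
        show g⁻¹ * (g * x ^ 5 * g⁻¹) * g⁻¹⁻¹ = x ^ 5 by group] at h1
      exact hx5 h1
    have hdvd : Nat.card H ∣ 10 * Nat.card (A.W a) := by
      rw [hcardH, hu, A.card_W, show 10 * (11 * A.u * A.v) = 11 * A.u * (10 * A.v) by ring]
      exact Nat.mul_dvd_mul_left _ (A.card_M a b hab).1
    obtain ⟨θ, hne, hθ⟩ := exists_sign A a hxa hx5' hdvd
    refine ⟨θ, fun h' => hne (by rw [h']; rfl), fun k hk => ?_, fun k hk => ?_, fun m m' hmb hm' => ?_⟩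
    · rw [hθ, if_pos (pow_mem (hKW hk) 5)]
    · obtain ⟨i, hi⟩ := hk
      rw [hθ, if_pos]
      rw [← hi]
      show (T.y ^ i) ^ 5 ∈ A.W a
      rw [← zpow_natCast, ← zpow_mul, mul_comm, zpow_mul, zpow_natCast,
        show T.y ^ 5 = 1 by rw [← T.y_order]; exact pow_orderOf_eq_one _, one_zpow]
      exact one_mem _
    · rw [hθ, hθ, hm', conj_pow]
      refine if_congr (hWab _ ?_ ?_).symm rfl rfl
      · exact (MulAction.stabilizer G a).pow_mem m.2 5
      · exact (MulAction.stabilizer G b).pow_mem hmb 5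
  · have hv : 1 < A.v := h.resolve_left hsig
    have hcom := A.commutator_V_ne hab hv h120
    obtain ⟨χ, hχ⟩ : ∃ χ : V →* ℂˣ, χ ≠ 1 := by
      obtain ⟨x, hx⟩ : ∃ x : V, x ∉ commutator V := by
        by_contra hno
        push Not at hno
        exact hcom (eq_top_iff.2 fun x _ => hno x)
      obtain ⟨φ, hφ⟩ := CommGroup.exists_apply_ne_one_of_hasEnoughRootsOfUnity (Abelianization V) ℂ
        (a := Abelianization.of x) fun h' => hx ((QuotientGroup.eq_one_iff x).1 h')
      exact ⟨φ.comp Abelianization.of, fun h' => hφ (by simpa using DFunLike.congr_fun h' x)⟩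
    -- the two-point stabiliser is `⟨y⟩ × V`
    have hVM : V ≤ M := fun x hx => ⟨A.W_le a hx.1, hx.2⟩
    have hcM : Nat.card M = 5 * A.v := by
      obtain ⟨h10, h5⟩ := A.card_M a b hab
      have h10 : Nat.card M ∣ 10 * A.v := h10
      have h5 : 5 * A.v ∣ Nat.card M := h5
      by_contra hne
      obtain ⟨t, ht⟩ := h5
      have ht2 : t ∣ 2 := by
        rw [ht, show 10 * A.v = 5 * A.v * 2 by ring] at h10
        exact Nat.dvd_of_mul_dvd_mul_left (by omega) h10
      have htv : t = 2 := ((Nat.dvd_prime Nat.prime_two).1 ht2).resolve_left fun h1 => by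
        rw [h1, mul_one] at ht; exact hne ht
      subst htv
      haveI : ((V.subgroupOf M)).Normal := ⟨fun n hn g => by
        rw [Subgroup.mem_subgroupOf] at hn ⊢
        refine ⟨?_, (MulAction.stabilizer G b).mul_mem ((MulAction.stabilizer G b).mul_mem g.2.2 hn.2)
          ((MulAction.stabilizer G b).inv_mem g.2.2)⟩
        have := A.W_conj g n a hn.1
        rwa [show (g : G) • a = a from g.2.1] at this⟩
      have hq : Nat.card (M ⧸ V.subgroupOf M) = 10 := by
        have h1 := Subgroup.card_eq_card_quotient_mul_card_subgroup (V.subgroupOf M)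
        have h2 : Nat.card (V.subgroupOf M) = A.v :=
          (Nat.card_congr (Subgroup.subgroupOfEquivOfLe hVM).toEquiv).trans (A.card_V a b hab)
        rw [h2, ht] at h1
        exact Nat.eq_of_mul_eq_mul_right (show 0 < A.v by omega) (by linarith)
      haveI : Fact (Nat.Prime 2) := ⟨Nat.prime_two⟩
      obtain ⟨q, hq2⟩ := exists_prime_orderOf_dvd_card' (G := M ⧸ V.subgroupOf M) 2 (by rw [hq]; norm_num)
      obtain ⟨m, rfl⟩ := QuotientGroup.mk_surjective q
      refine hsig ⟨a, b, m, hab, m.2.1, m.2.2, fun h' => ?_⟩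
      have h5 : (QuotientGroup.mk m : M ⧸ V.subgroupOf M) ^ 5 = 1 := by
        rw [← QuotientGroup.mk_pow, QuotientGroup.eq_one_iff, Subgroup.mem_subgroupOf,
          SubmonoidClass.coe_pow]
        exact ⟨h', (MulAction.stabilizer G b).pow_mem m.2.2 5⟩
      have := orderOf_dvd_of_pow_eq_one h5
      rw [hq2] at this
      norm_num at this
    have hyM : Subgroup.zpowers T.y ≤ M := Subgroup.zpowers_le.2 ⟨T.ya, T.yb⟩
    have hcomm : ∀ (p : Subgroup.zpowers T.y) (x : V),
        Commute (Subgroup.inclusion hyM p) (Subgroup.inclusion hVM x) := by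
      rintro ⟨p, i, rfl⟩ x
      refine Subtype.ext ?_
      exact ((show Commute (x : G) T.y from T.y_comm x x.2.1 x.2.2).zpow_right i).symm
    let f : Subgroup.zpowers T.y × V →* M :=
      MonoidHom.noncommCoprod (Subgroup.inclusion hyM) (Subgroup.inclusion hVM) hcomm
    have hfv : ∀ p, (f p : G) = (p.1 : G) * p.2 := fun p => rfl
    have hdisj : ∀ p : G, p ∈ Subgroup.zpowers T.y → p ∈ V → p = 1 := by
      intro p hp hpV
      by_contra hne
      have hp5 : (Subgroup.zpowers T.y) ⊓ V ≠ ⊥ := fun h' => hne (by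
        have : p ∈ Subgroup.zpowers T.y ⊓ V := ⟨hp, hpV⟩
        rwa [h', Subgroup.mem_bot] at this)
      haveI : Fact (Nat.card (Subgroup.zpowers T.y)).Prime :=
        ⟨by rw [Nat.card_zpowers, T.y_order]; norm_num⟩
      have hy : T.y ∈ V := by
        rcases (V.subgroupOf (Subgroup.zpowers T.y)).eq_bot_or_eq_top_of_prime_card with h0 | h0
        · refine absurd (?_ : (⟨p, hp⟩ : Subgroup.zpowers T.y) = 1) fun e => hne (congrArg Subtype.val e)
          have h1 : (⟨p, hp⟩ : Subgroup.zpowers T.y) ∈ V.subgroupOf (Subgroup.zpowers T.y) := hpV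
          rwa [h0, Subgroup.mem_bot] at h1
        · exact (Subgroup.subgroupOf_eq_top.1 h0) (Subgroup.mem_zpowers _)
      have h1 := T.w_comm T.y hy.1 hy.2
      have h2 : T.y = T.y⁻¹ := by rw [← T.wy, ← h1, mul_inv_cancel_right]
      have h3 := T.y_order
      rw [orderOf_eq_prime (p := 2) (by rw [pow_two]; exact eq_inv_iff_mul_eq_one.1 h2)
        (fun e => by rw [e, orderOf_one] at h3; omega)] at h3
      omega
    have hfb : Function.Bijective f := by
      refine (Nat.bijective_iff_injective_and_card f).2 ⟨(injective_iff_map_eq_one f).2 fun p hp => ?_, ?_⟩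
      · have h' : (p.1 : G) * p.2 = 1 := by rw [← hfv, hp]; rfl
        have h1 := hdisj _ p.1.2 (by rw [mul_eq_one_iff_eq_inv.1 h']; exact V.inv_mem p.2.2)
        refine Prod.ext (Subtype.ext h1) (Subtype.ext ?_)
        rwa [h1, one_mul] at h'
      · rw [Nat.card_prod, Nat.card_zpowers, T.y_order, A.card_V a b hab, hcM]
    let e := MulEquiv.ofBijective f hfb
    choose kap hkap hkapb using fun h : H => hreg ((h : G) • b) fun h' =>
      hab (smul_left_cancel (h : G) ((show (h : G) • a = a from h.2).trans h'.symm))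
    have huniq : ∀ k ∈ K, ∀ k' ∈ K, k • b = k' • b → k = k' := by
      intro k hk k' hk' hkb
      by_contra hne
      exact hab.symm (hKfix _ (K.mul_mem (K.inv_mem hk') hk)
        (fun e => hne (inv_mul_eq_one.1 e).symm) b (by rw [mul_smul, hkb, inv_smul_smul]))
    let π : H →* M :=
      { toFun := fun h => ⟨(kap h)⁻¹ * h, H.mul_mem (H.inv_mem (A.W_le a (hKW (hkap h)))) h.2,
          show ((kap h)⁻¹ * (h : G)) • b = b by rw [mul_smul, inv_smul_eq_iff, hkapb]⟩
        map_one' := Subtype.ext (by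
          show (kap 1)⁻¹ * ((1 : H) : G) = 1
          rw [huniq _ (hkap 1) 1 K.one_mem (by rw [hkapb, OneMemClass.coe_one])]
          simp)
        map_mul' := fun p q => Subtype.ext (by
          show (kap (p * q))⁻¹ * ((p : G) * q) = ((kap p)⁻¹ * p) * ((kap q)⁻¹ * q)
          have hmp : ((kap p)⁻¹ * (p : G)) • b = b := by rw [mul_smul, inv_smul_eq_iff, hkapb]
          have hmpa : ((kap p)⁻¹ * (p : G)) • a = a :=
            H.mul_mem (H.inv_mem (A.W_le a (hKW (hkap p)))) p.2
          rw [huniq _ (hkap (p * q)) (kap p * (((kap p)⁻¹ * p) * kap q * ((kap p)⁻¹ * p)⁻¹))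
            (K.mul_mem (hkap p) (hKn _ _ hmpa (hkap q)))]
          · group
          · rw [hkapb, Subgroup.coe_mul, show kap p * ((kap p)⁻¹ * (p : G) * kap q *
                ((kap p)⁻¹ * (p : G))⁻¹) = (p : G) * kap q * ((kap p)⁻¹ * (p : G))⁻¹ by group,
              mul_smul, mul_smul ((p : G) * kap q), inv_smul_eq_iff.2 hmp.symm, mul_smul, hkapb q] ) }
    have hπM : ∀ (h : H) (hh : (h : G) • b = b), π h = ⟨h, h.2, hh⟩ := fun h hh => Subtype.ext (by
      show (kap h)⁻¹ * (h : G) = h
      rw [huniq _ (hkap h) 1 K.one_mem (by rw [hkapb, hh, one_smul]), inv_one, one_mul])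
    have hfe : ∀ p, e p = f p := fun p => rfl
    let θ : H →* ℂˣ := χ.comp ((MonoidHom.snd (Subgroup.zpowers T.y) V).comp (e.symm.toMonoidHom.comp π))
    have hθ : ∀ h : H, θ h = χ (e.symm (π h)).2 := fun h => rfl
    have hsym : ∀ (m : M) (p : Subgroup.zpowers T.y) (x : V), (m : G) = p * x → e.symm m = (p, x) :=
      fun m p x hm => e.injective (by rw [e.apply_symm_apply, hfe]; exact Subtype.ext hm)
    refine ⟨θ, fun h' => hχ (MonoidHom.ext fun x => ?_), fun k hk => ?_, fun k hk => ?_,
      fun m m' hmb hm' => ?_⟩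
    · have h1 := hθ ⟨x, (hVM x.2).1⟩
      rw [h', hπM ⟨x, (hVM x.2).1⟩ x.2.2, hsym _ 1 x (by simp)] at h1
      exact h1.symm
    · rw [hθ, show π k = 1 from Subtype.ext (by
        show (kap k)⁻¹ * (k : G) = 1
        rw [huniq _ (hkap k) k hk (hkapb k), inv_mul_cancel]), map_one, Prod.snd_one, map_one]
    · rw [hθ, hπM k (hyM hk).2, hsym _ ⟨k, hk⟩ 1 (by simp), map_one]
    · obtain ⟨⟨p, x⟩, hpx⟩ : ∃ q, e q = π m := ⟨e.symm _, e.apply_symm_apply _⟩
      have hmv : (m : G) = p * x := by
        have h1 := congrArg (fun z : M => (z : G)) hpx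
        rw [hπM m hmb] at h1
        exact h1.symm
      have hwp : T.w * (p : G) * T.w⁻¹ ∈ Subgroup.zpowers T.y := by
        obtain ⟨i, hi⟩ := p.2
        rw [← hi]
        show T.w * T.y ^ i * T.w⁻¹ ∈ Subgroup.zpowers T.y
        rw [← conj_zpow, T.wy]
        exact zpow_mem (inv_mem (Subgroup.mem_zpowers _)) i
      have hxw : T.w * (x : G) * T.w⁻¹ = x := by
        rw [← T.w_comm x x.2.1 x.2.2, mul_inv_cancel_right]
      have hm2 : (m' : G) = T.w * (p : G) * T.w⁻¹ * x := by
        rw [hm', hmv]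
        conv_rhs => rw [← hxw]
        group
      have hmb' : (m' : G) • b = b := by
        rw [hm2, mul_smul, show (x : G) • b = b from x.2.2]
        exact (hyM hwp).2
      rw [hθ, hθ, hπM m' hmb', hsym _ ⟨_, hwp⟩ x hm2, hπM m hmb, hsym _ p x hmv]

end H45.Eleven
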